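import Mathlib

/-!
# Ramified points with separable residue extension on smooth curves: ring level (helper5)

`k` a field, `Ry → R` a local homomorphism of local `k`-algebras, `R` essentially of finite type
over `k`, `m_y R ⊆ m²`, `κ(R)/κ(Ry)` separable, `dim_κ (κ ⊗ Ω_{R/k}) ≤ 1` and `= 0` if `R` is a
field.  Then `κ(R)` is formally unramified over `k`.
-/

set_option autoImplicit false

namespace Groth.Agent.H5.TameSep

universe u

open IsLocalRing TensorProduct KaehlerDifferential

variable (k Ry R : Type u) [Field k] [CommRing Ry] [CommRing R] [IsLocalRing Ry] [IsLocalRing R]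
  [Algebra k Ry] [Algebra k R] [Algebra Ry R] [IsScalarTower k Ry R]
  [IsLocalHom (algebraMap Ry R)] [Algebra.EssFiniteType k R]

/-- If the conormal map `m/m² → κ ⊗ Ω_{R/k}` vanishes, then `R` is a field. -/
theorem isField_of_kerCotangentToTensor_eq_zero
    [Algebra.IsSeparable (ResidueField Ry) (ResidueField R)]
    (hm : (maximalIdeal Ry).map (algebraMap Ry R) ≤ maximalIdeal R ^ 2)
    (hδ : ∀ a ∈ maximalIdeal R, (1 : ResidueField R) ⊗ₜ[R] D k R a = 0) : IsField R := by
  haveI : Algebra.EssFiniteType Ry R := Algebra.EssFiniteType.of_comp k Ry R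
  haveI : IsNoetherianRing R := Algebra.EssFiniteType.isNoetherianRing k R
  have hunr : Algebra.FormallyUnramified Ry R := by
    constructor
    have : Algebra.FormallyUnramified (ResidueField Ry) (ResidueField R) := .of_isSeparable _ _
    have : Algebra.FormallyUnramified Ry (ResidueField R) := .comp _ (ResidueField Ry) _
    rw [← subsingleton_tensorProduct (R := R)]
    refine subsingleton_of_forall_eq 0 fun x ↦ ?_
    obtain ⟨x, rfl⟩ := (KaehlerDifferential.exact_kerCotangentToTensor_mapBaseChange Ry R
      (ResidueField R) Ideal.Quotient.mk_surjective x).mp (Subsingleton.elim _ _)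
    obtain ⟨⟨x, hx⟩, rfl⟩ := Ideal.toCotangent_surjective _ x
    simp only [KaehlerDifferential.kerCotangentToTensor_toCotangent]
    have hx' : x ∈ maximalIdeal R := by
      have : algebraMap R (ResidueField R) x = 0 := hx
      rwa [← residue_eq_zero_iff]
    -- transfer along `Ω[R⁄k] → Ω[R⁄Ry]`
    let g : Ω[R⁄k] →ₗ[R] ResidueField R ⊗[R] Ω[R⁄Ry] :=
      (TensorProduct.mk R (ResidueField R) Ω[R⁄Ry] 1).comp (KaehlerDifferential.map k Ry R R)
    let Φ : ResidueField R ⊗[R] Ω[R⁄k] →ₗ[ResidueField R] ResidueField R ⊗[R] Ω[R⁄Ry] :=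
      LinearMap.liftBaseChange (ResidueField R) g
    have h1 : Φ ((1 : ResidueField R) ⊗ₜ[R] D k R x) = (1 : ResidueField R) ⊗ₜ[R] D Ry R x := by
      simp [Φ, g]
    rw [← h1, hδ x hx', map_zero]
  have hmax := Algebra.FormallyUnramified.map_maximalIdeal (R := Ry) (S := R)
  rw [hmax] at hm
  have hbot : maximalIdeal R = ⊥ := by
    have h2 : maximalIdeal R ≤ maximalIdeal R • maximalIdeal R := by
      rwa [pow_two] at hm
    exact Submodule.eq_bot_of_le_smul_of_le_jacobson_bot (maximalIdeal R) (maximalIdeal R)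
      (IsNoetherian.noetherian _) h2 (maximalIdeal_le_jacobson _)
  exact IsLocalRing.isField_iff_maximalIdeal_eq.mpr hbot

theorem formallyUnramified_residueField
    [Algebra.IsSeparable (ResidueField Ry) (ResidueField R)]
    (hm : (maximalIdeal Ry).map (algebraMap Ry R) ≤ maximalIdeal R ^ 2)
    (hrank : Module.finrank (ResidueField R) (ResidueField R ⊗[R] Ω[R⁄k]) ≤ 1)
    (hfield : IsField R → Subsingleton (ResidueField R ⊗[R] Ω[R⁄k])) :
    Algebra.FormallyUnramified k (ResidueField R) := by
  constructor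
  have hsurj : Function.Surjective (algebraMap R (ResidueField R)) := Ideal.Quotient.mk_surjective
  have hex := KaehlerDifferential.exact_kerCotangentToTensor_mapBaseChange k R (ResidueField R)
    hsurj
  have hsurj2 := KaehlerDifferential.mapBaseChange_surjective k R (ResidueField R) hsurj
  haveI : Module.Finite R Ω[R⁄k] := inferInstance
  haveI : Module.Finite (ResidueField R) (ResidueField R ⊗[R] Ω[R⁄k]) := inferInstance
  by_cases hδ : ∀ a ∈ maximalIdeal R, (1 : ResidueField R) ⊗ₜ[R] D k R a = 0
  · have hf := isField_of_kerCotangentToTensor_eq_zero k Ry R hm hδ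
    haveI := hfield hf
    exact hsurj2.subsingleton
  · push Not at hδ
    obtain ⟨a, ha, hne⟩ := hδ
    refine subsingleton_of_forall_eq 0 fun w ↦ ?_
    obtain ⟨u, rfl⟩ := hsurj2 w
    -- `u` is a multiple of `1 ⊗ D a`
    have hpos : 0 < Module.finrank (ResidueField R) (ResidueField R ⊗[R] Ω[R⁄k]) :=
      Module.finrank_pos_iff_exists_ne_zero.mpr ⟨_, hne⟩
    have h1 : Module.finrank (ResidueField R) (ResidueField R ⊗[R] Ω[R⁄k]) = 1 := by omega
    obtain ⟨c, hc⟩ := exists_smul_eq_of_finrank_eq_one h1 hne u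
    obtain ⟨c', rfl⟩ := hsurj c
    have ha' : a ∈ RingHom.ker (algebraMap R (ResidueField R)) := by
      rw [RingHom.mem_ker]
      exact (residue_eq_zero_iff a).mpr ha
    have h2 : u = KaehlerDifferential.kerCotangentToTensor k R (ResidueField R)
        (c' • Ideal.toCotangent _ ⟨a, ha'⟩) := by
      rw [map_smul, KaehlerDifferential.kerCotangentToTensor_toCotangent, ← hc,
        algebraMap_smul]
    rw [h2]
    exact (hex _).mpr ⟨_, rfl⟩

end Groth.Agent.H5.TameSep
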