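import Mathlib
import Groth.Prelude.Def_CurvBase
import Groth.Agent.Lib.Helper5.TameSep.TsA
import Groth.Agent.Lib.Helper9.Misc.GZC1
import Groth.Agent.Lib.Helper1.SmoothReg3
import Groth.Agent.Lib.Helper7.RelCurveA
import Groth.Agent.Lib.Helper5.Car.KD3

/-!
# Ramified points with separable residue extension on smooth curves: scheme level (helper5)
-/

set_option autoImplicit false
set_option linter.style.haveILetI false

open CategoryTheory CategoryTheory.Limits AlgebraicGeometry IsLocalRing TensorProduct

namespace Groth.Agent.H5.TameSep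

universe u

attribute [local instance] Curv2.stalkAlgebra

theorem finite_residueField_of_isClosed (k : Type u) [Field k] (X : Scheme.{u})
    [X.Over (Spec (CommRingCat.of k))] [LocallyOfFiniteType (X ↘ Spec (CommRingCat.of k))]
    (x : X) (hx : IsClosed ({x} : Set X)) :
    letI := Curv2.resAlgebra k X x
    Module.Finite k (X.residueField x) := by
  letI := Curv2.resAlgebra k X x
  haveI : JacobsonSpace X := LocallyOfFiniteType.jacobsonSpace (X ↘ Spec (CommRingCat.of k))
  rw [isClosed_singleton_iff_locallyOfFiniteType] at hx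
  have h2 : LocallyOfFiniteType (Spec.map (CommRingCat.ofHom (Curv2.resMap k X x))) := by
    rw [Groth.Agent.H9.GZC.specMap_resMap]; infer_instance
  rw [HasRingHomProperty.Spec_iff (P := @LocallyOfFiniteType)] at h2
  haveI : Algebra.FiniteType k (X.residueField x) := h2
  exact finite_of_finite_type_of_isJacobsonRing k (X.residueField x)

theorem stalkMap_comp_stalkMap (k : Type u) [Field k] (X Y : Scheme.{u})
    [X.Over (Spec (CommRingCat.of k))] [Y.Over (Spec (CommRingCat.of k))] (f : X ⟶ Y)
    (hf : f ≫ (Y ↘ Spec (CommRingCat.of k)) = X ↘ Spec (CommRingCat.of k)) (x : X) :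
    Curv2.stalkMap k X x = (f.stalkMap x).hom.comp (Curv2.stalkMap k Y (f x)) := by
  have h := Scheme.Hom.germ_stalkMap f ⊤ x trivial
  ext a
  have h2 := congr($(h).hom (Coh.toGlobal (Y ↘ Spec (CommRingCat.of k)) a))
  simp only [Curv2.stalkMap, RingHom.comp_apply]
  refine Eq.trans ?_ h2.symm
  simp only [CommRingCat.hom_comp, RingHom.comp_apply]
  congr 1
  simp only [Coh.toGlobal, RingHom.comp_apply, ← hf, Scheme.Hom.comp_appTop,
    CommRingCat.hom_comp]
  rfl

theorem main (k : Type u) [Field k]
    (X Y : Scheme.{u}) [X.Over (Spec (CommRingCat.of k))] [Y.Over (Spec (CommRingCat.of k))]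
    [SmoothOfRelativeDimension 1 (X ↘ Spec (CommRingCat.of k))]
    (f : X ⟶ Y) (hf : f ≫ (Y ↘ Spec (CommRingCat.of k)) = X ↘ Spec (CommRingCat.of k))
    (x : X) (hx : IsClosed ({x} : Set X)) (e : ℕ)
    (he : (IsLocalRing.maximalIdeal (Y.presheaf.stalk (f.base x))).map (f.stalkMap x).hom =
      IsLocalRing.maximalIdeal (X.presheaf.stalk x) ^ e)
    (h2 : 2 ≤ e)
    (hsep : @Algebra.IsSeparable (Y.residueField (f.base x)) (X.residueField x) _ _
      (f.residueFieldMap x).hom.toAlgebra) :
    @Algebra.IsSeparable k (X.residueField x) _ _ (Curv2.resAlgebra k X x) := by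
  haveI : Smooth (X ↘ Spec (CommRingCat.of k)) := SmoothOfRelativeDimension.smooth 1 _
  haveI : LocallyOfFiniteType (X ↘ Spec (CommRingCat.of k)) := inferInstance
  letI algRyR : Algebra (Y.presheaf.stalk (f x)) (X.presheaf.stalk x) :=
    (f.stalkMap x).hom.toAlgebra
  haveI : IsLocalHom (algebraMap (Y.presheaf.stalk (f x)) (X.presheaf.stalk x)) := by
    rw [RingHom.algebraMap_toAlgebra]; infer_instance
  haveI : IsScalarTower k (Y.presheaf.stalk (f x)) (X.presheaf.stalk x) :=
    .of_algebraMap_eq' (stalkMap_comp_stalkMap k X Y f hf x)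
  haveI hess : Algebra.EssFiniteType k (X.presheaf.stalk x) :=
    Groth.Agent.H1.SmoothReg.essFiniteType_stalkMapK k (X ↘ Spec (CommRingCat.of k)) x
  haveI : IsNoetherianRing (X.presheaf.stalk x) :=
    Algebra.EssFiniteType.isNoetherianRing k (X.presheaf.stalk x)
  haveI hfs : Algebra.FormallySmooth k (X.presheaf.stalk x) := by
    have hmem : x ∈ (X ↘ Spec (CommRingCat.of k)).smoothLocus := by
      rw [Scheme.Hom.smoothLocus_eq_top_iff.mpr inferInstance]; trivial
    exact (Groth.Agent.H1.SmoothReg.mem_smoothLocus_iff_formallySmooth k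
      (X ↘ Spec (CommRingCat.of k)) x).mp hmem
  -- the residue field
  have halg : (IsLocalRing.ResidueField.algebra (X.presheaf.stalk x) : Algebra k
      (IsLocalRing.ResidueField (X.presheaf.stalk x))) = Curv2.resAlgebra k X x :=
    Algebra.algebra_ext _ _ (fun r => rfl)
  haveI hfin : Module.Finite k (IsLocalRing.ResidueField (X.presheaf.stalk x)) := by
    have h := finite_residueField_of_isClosed k X x hx
    rw [← halg] at h
    exact h
  haveI : Algebra.IsAlgebraic k (IsLocalRing.ResidueField (X.presheaf.stalk x)) :=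
    Algebra.IsAlgebraic.of_finite _ _
  haveI : Algebra.EssFiniteType k (IsLocalRing.ResidueField (X.presheaf.stalk x)) := inferInstance
  have htr : Algebra.trdeg k (IsLocalRing.ResidueField (X.presheaf.stalk x)) = 0 := trdeg_eq_zero
  -- dimension
  have hd1 : ringKrullDim (X.presheaf.stalk x) ≤ 1 :=
    Groth.Agent.H7.RelCurve.ringKrullDim_stalk_le_one k (X ↘ Spec (CommRingCat.of k)) x
  have hd0 : 0 ≤ ringKrullDim (X.presheaf.stalk x) := ringKrullDim_nonneg_of_nontrivial
  obtain ⟨nd, hnd⟩ : ∃ nd : ℕ, ringKrullDim (X.presheaf.stalk x) = nd := by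
    have hb : ringKrullDim (X.presheaf.stalk x) ≠ ⊥ := ne_bot_of_le_ne_bot (by simp) hd0
    obtain ⟨d, hd⟩ := WithBot.ne_bot_iff_exists.mp hb
    have hd1' : d ≤ (1 : ℕ∞) := by
      have : ((d : ℕ∞) : WithBot ℕ∞) ≤ ((1 : ℕ∞) : WithBot ℕ∞) := by rw [hd]; exact hd1
      exact WithBot.coe_le_coe.mp this
    have hdt : d ≠ ⊤ := ne_top_of_le_ne_top ENat.one_ne_top hd1'
    obtain ⟨n, rfl⟩ := ENat.ne_top_iff_exists.mp hdt
    exact ⟨n, hd.symm⟩
  have hnd1 : nd ≤ 1 := by
    rw [hnd] at hd1
    exact_mod_cast hd1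
  obtain ⟨hfinΩ, hrk⟩ := Groth.Agent.H5.KD.finrank_residue_tensor_kaehler (k := k)
    (A := X.presheaf.stalk x)
    (Groth.Agent.H5.GR.isAdicFormallySmooth_of_formallySmooth k _ _) nd hnd
  rw [htr, map_zero, add_zero] at hrk
  -- separability of the residue field extension
  have halg2 : (ResidueField.instAlgebra : Algebra
      (IsLocalRing.ResidueField (Y.presheaf.stalk (f x)))
      (IsLocalRing.ResidueField (X.presheaf.stalk x))) = (f.residueFieldMap x).hom.toAlgebra :=
    Algebra.algebra_ext _ _ (fun r => by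
      obtain ⟨r, rfl⟩ := residue_surjective r
      rw [IsLocalRing.ResidueField.algebraMap_residue]
      rfl)
  haveI hsep' : Algebra.IsSeparable (IsLocalRing.ResidueField (Y.presheaf.stalk (f x)))
      (IsLocalRing.ResidueField (X.presheaf.stalk x)) := by
    rw [halg2]; exact hsep
  have hm : (maximalIdeal (Y.presheaf.stalk (f x))).map
      (algebraMap (Y.presheaf.stalk (f x)) (X.presheaf.stalk x)) ≤
      maximalIdeal (X.presheaf.stalk x) ^ 2 := by
    rw [RingHom.algebraMap_toAlgebra]
    exact he.le.trans (Ideal.pow_le_pow_right h2)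
  have hunr := formallyUnramified_residueField k (Y.presheaf.stalk (f x)) (X.presheaf.stalk x) hm
    (by rw [hrk]; exact hnd1)
    (by
      intro hF
      have h0 := ringKrullDim_eq_zero_of_isField hF
      rw [hnd] at h0
      have : nd = 0 := by exact_mod_cast h0
      rw [this] at hrk
      exact Module.finrank_zero_iff.mp hrk)
  have hs : Algebra.IsSeparable k (IsLocalRing.ResidueField (X.presheaf.stalk x)) :=
    Algebra.FormallyUnramified.isSeparable k _
  rw [halg] at hs
  exact hs

end Groth.Agent.H5.TameSep
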